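import Cfsg.Agent.OrdDiv.Table
import Cfsg.Agent.H436.Names
import Cfsg.Agent.H915.GNDefs
import Cfsg.Prelude.Def_LieTypeChar

/-!
# Names of the groups of Lie type in characteristic `p` (helper659)
-/

set_option autoImplicit false

namespace Cfsg.Agent.H659.O8

open Cfsg Cfsg.Agent.OrdDiv Cfsg.Agent.H436 Cfsg.Agent.H915.GN

universe u

variable {p : ℕ}

theorem exists_pow {p q n k : ℕ} (hp : p.Prime) (hn : n ≠ 0) (h : q ^ n = p ^ k) : ∃ f, q = p ^ f := by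
  have h1 : q ∣ p ^ k := by rw [← h]; exact dvd_pow_self q hn
  obtain ⟨f, -, hf⟩ := (Nat.dvd_prime_pow hp).1 h1
  exact ⟨f, hf⟩

theorem exists_pow_card (F : Type) [Field F] [Fintype F] [CharP F p] : ∃ f, Fintype.card F = p ^ f := by
  obtain ⟨n, -, hn⟩ := FiniteField.card F p
  exact ⟨n, hn⟩

/-- **A group of Lie type in characteristic `p` has a name of characteristic `p`.** -/
theorem named_of_lie (hp : p.Prime) {S : Type u} [Group S] (h : IsLieTypeChar p S) :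
    ∃ g, IsNamed g S ∧ HasChar p g := by
  have T : OrderTable.{u} := table
  rcases h with h | h | h | h | h | h | h | h | h | h | h
  · obtain ⟨F, _, _, _, n, hn, hn2, ⟨e⟩⟩ := h
    refine ⟨.psl n (Fintype.card F), .mk' ⟨F, inferInstance, inferInstance, rfl, ⟨e⟩⟩
      ⟨hn, hn2, Fintype.isPrimePow_card_of_field⟩ ?_, exists_pow_card F⟩
    rw [Nat.card_congr e.toEquiv]
    exact psl_eq hn
  · obtain ⟨F, _, _, _, n, hn, hn2, ⟨e⟩⟩ := h
    refine ⟨.psp n (Fintype.card F), .mk' ⟨F, inferInstance, inferInstance, rfl, ⟨e⟩⟩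
      ⟨hn, hn2, Fintype.isPrimePow_card_of_field⟩ ?_, exists_pow_card F⟩
    rw [Nat.card_congr e.toEquiv]
    exact psp_eq hn
  · obtain ⟨F, _, _, _, n, q, hF, hn, hn2, ⟨e⟩⟩ := h
    have hq2 : IsPrimePow (q ^ 2) := hF ▸ Fintype.isPrimePow_card_of_field
    have hqp : IsPrimePow q := (isPrimePow_pow_iff (by norm_num)).1 hq2
    obtain ⟨k, hk⟩ := exists_pow_card (p := p) F
    refine ⟨.psu n q, .mk' ⟨F, inferInstance, inferInstance, hF, ⟨e⟩⟩ ⟨hn, hn2, hqp⟩ ?_,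
      exists_pow hp two_ne_zero (hF.symm.trans hk)⟩
    rw [Nat.card_congr e.toEquiv]
    exact psu_eq hF hn
  · obtain ⟨F, _, _, _, n, hn, ho, ⟨e⟩⟩ := h
    refine ⟨.oodd n (Fintype.card F), .mk' ⟨F, inferInstance, inferInstance, rfl, ⟨e⟩⟩
      ⟨hn, ho, Fintype.isPrimePow_card_of_field⟩ ?_, exists_pow_card F⟩
    rw [Nat.card_congr e.toEquiv]
    exact oodd_eq hn ho
  · obtain ⟨F, _, _, _, n, hn, ⟨e⟩⟩ := h
    refine ⟨.oplus n (Fintype.card F), .mk' ⟨F, inferInstance, inferInstance, rfl, ⟨e⟩⟩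
      ⟨hn, Fintype.isPrimePow_card_of_field⟩ ?_, exists_pow_card F⟩
    rw [Nat.card_congr e.toEquiv]
    exact oplus_eq hn
  · obtain ⟨F, _, _, _, n, a, b, hn, hab, ⟨e⟩⟩ := h
    refine ⟨.ominus n (Fintype.card F), .mk' ⟨F, inferInstance, inferInstance, a, b, rfl, hab, ⟨e⟩⟩
      ⟨hn, Fintype.isPrimePow_card_of_field⟩ ?_, exists_pow_card F⟩
    rw [Nat.card_congr e.toEquiv]
    exact ominus_eq hn hab
  · obtain ⟨F, _, _, _, h⟩ := h
    rcases h with h | h | h | h | h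
    · obtain ⟨hq, ⟨e⟩⟩ := h
      refine ⟨.g2 (Fintype.card F), .mk' ⟨F, inferInstance, inferInstance, rfl, ⟨e⟩⟩
        ⟨hq, Fintype.isPrimePow_card_of_field⟩ ?_, exists_pow_card F⟩
      rw [Nat.card_congr e.toEquiv]
      change 1 * _ = _ ^ 6 * _
      rw [T.g2 F]; ring
    · obtain ⟨e⟩ := h
      refine ⟨.f4 (Fintype.card F), .mk' ⟨F, inferInstance, inferInstance, rfl, ⟨e⟩⟩
        Fintype.isPrimePow_card_of_field ?_, exists_pow_card F⟩
      rw [Nat.card_congr e.toEquiv]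
      change 1 * _ = _ ^ 24 * _
      rw [T.f4 F _ rfl]; ring
    · obtain ⟨e⟩ := h
      refine ⟨.e6 (Fintype.card F), .mk' ⟨F, inferInstance, inferInstance, rfl, ⟨e⟩⟩
        Fintype.isPrimePow_card_of_field ?_, exists_pow_card F⟩
      rw [Nat.card_congr e.toEquiv]
      change Nat.gcd 3 (Fintype.card F - 1) * _ = _ ^ 36 * _
      rw [T.e6 F _ rfl]; ring
    · obtain ⟨e⟩ := h
      refine ⟨.e7 (Fintype.card F), .mk' ⟨F, inferInstance, inferInstance, rfl, ⟨e⟩⟩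
        Fintype.isPrimePow_card_of_field ?_, exists_pow_card F⟩
      rw [Nat.card_congr e.toEquiv]
      change Nat.gcd 2 (Fintype.card F - 1) * _ = _ ^ 63 * _
      rw [T.e7 F _ rfl]; ring
    · obtain ⟨e⟩ := h
      refine ⟨.e8 (Fintype.card F), .mk' ⟨F, inferInstance, inferInstance, rfl, ⟨e⟩⟩
        Fintype.isPrimePow_card_of_field ?_, exists_pow_card F⟩
      rw [Nat.card_congr e.toEquiv]
      change 1 * _ = _ ^ 120 * _
      rw [T.e8 F _ rfl]; ring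
  · obtain ⟨F, _, _, _, q, hq, h⟩ := h
    obtain ⟨k, hk⟩ := exists_pow_card (p := p) F
    rcases h with ⟨hF, ⟨e⟩⟩ | ⟨hF, ⟨e⟩⟩
    · refine ⟨.te6 q, .mk' ⟨F, inferInstance, inferInstance, hF, ⟨e⟩⟩ hq ?_,
        exists_pow hp two_ne_zero (hF.symm.trans hk)⟩
      rw [Nat.card_congr e.toEquiv]
      change Nat.gcd 3 (q + 1) * _ = _ ^ 36 * _
      rw [T.te6 F q hq hF]; ring
    · refine ⟨.td4 q, .mk' ⟨F, inferInstance, inferInstance, hF, ⟨e⟩⟩ hq ?_,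
        exists_pow hp three_ne_zero (hF.symm.trans hk)⟩
      rw [Nat.card_congr e.toEquiv]
      change 1 * _ = _ ^ 12 * _
      rw [T.td4 F q hq hF]; ring
  · obtain ⟨rfl, F, _, _, m, hm, hF, ⟨e⟩⟩ := h
    refine ⟨.sz (2 ^ (2 * m + 1)), .mk' ⟨F, inferInstance, inferInstance, m, hm, hF, rfl, ⟨e⟩⟩
      ⟨m, hm, rfl⟩ ?_, ⟨_, rfl⟩⟩
    rw [Nat.card_congr e.toEquiv]
    change 1 * _ = _ ^ 2 * _
    rw [T.sz F m hm hF]; ring
  · obtain ⟨rfl, F, _, _, m, hm, hF, ⟨e⟩⟩ := h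
    refine ⟨.tf4 (2 ^ (2 * m + 1)), .mk' ⟨F, inferInstance, inferInstance, m, hm, hF, rfl, ⟨e⟩⟩
      ⟨m, hm, rfl⟩ ?_, ⟨_, rfl⟩⟩
    rw [Nat.card_congr e.toEquiv]
    change 1 * _ = _ ^ 12 * _
    rw [T.tf4 F m hm hF]; ring
  · obtain ⟨rfl, F, _, _, m, hm, hF, ⟨e⟩⟩ := h
    refine ⟨.ree (3 ^ (2 * m + 1)), .mk' ⟨F, inferInstance, inferInstance, m, hm, hF, rfl, ⟨e⟩⟩
      ⟨m, hm, rfl⟩ ?_, ⟨_, rfl⟩⟩
    rw [Nat.card_congr e.toEquiv]
    change 1 * _ = _ ^ 3 * _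
    rw [T.ree F m hm hF]; ring

end Cfsg.Agent.H659.O8
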