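import Cfsg.Agent.H659.O8.Exact
import Cfsg.Agent.H659.O8.Named
import Cfsg.Agent.H708.O8.Defs
import Cfsg.Agent.H264.FKS.Res
import Cfsg.Agent.H915.LD
import Cfsg.Agent.OddHalf.Known

/-!
# COV-O8+ (S2499): `own_card`, the subgroups of `PΩ₈⁺(q)` with a socle of Lie type in the same characteristic (helper659)
-/

set_option autoImplicit false

namespace Cfsg.Agent.H659.O8

open Cfsg Cfsg.Geo Cfsg.Agent.OrdDiv Cfsg.Agent.H436 Cfsg.Agent.H915.GN Cfsg.Agent.H264.GN Cfsg.Agent.H264.FKS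
open Cfsg.Agent.H902 Cfsg.Agent.H902.Names Cfsg.Agent.H708.O8 Cfsg.Agent.H915.LD Cfsg.Agent.H884.El
open scoped MatrixGroups Matrix

universe u

variable {p a r b c : ℕ} {g : Grp}

theorem ex_of_rb (h : RB p a r b) : EX p a r b := by
  refine ⟨h.ha, h.prim, fun h1 => ?_⟩
  have h2 : p ^ (4 * a) - 1 = (p ^ (2 * a) - 1) * (p ^ (2 * a) + 1) := by
    rw [show 4 * a = (2 * a) * 2 by ring, pow_mul]
    have := Nat.sq_sub_sq (p ^ (2 * a)) 1
    rw [one_pow] at this
    rw [this, mul_comm]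
  rw [h2] at h1
  have h3 : ¬ r ∣ p ^ (2 * a) - 1 := by
    rw [h.prim.dvd_iff]
    intro h4
    have h5 := h.ha
    have := Nat.le_of_dvd (by omega) h4
    omega
  exact h.not_dvd ((cop_pow h.prim.prime h3).dvd_of_dvd_mul_left h1)

/-- the exponents are at most `6 a` -/
theorem top_le (hp : p.Prime) (ha : 1 ≤ a) {f : ℕ} {X Y : ℕ → Prop} {M A : ℕ} (hK : KD p f c X Y M A) (hY : Y M)
    {XT : ℕ → Prop} {aT : ℕ} (hT : TD p a c XT 6 aT) : f * M ≤ 6 * a := by
  by_cases h3 : 3 ≤ f * M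
  · by_cases h6 : p = 2 ∧ f * M = 6
    · omega
    · obtain ⟨t, ht⟩ := exists_prim hp.two_le h3 h6
      obtain ⟨i, hi, hd⟩ := hT.exp ht (hK.has hY h3 ht)
      have h1 := hT.le hi
      have h2 := Nat.le_of_dvd (Nat.mul_pos ha h1.1) hd
      calc f * M ≤ a * i := h2
        _ ≤ a * 6 := Nat.mul_le_mul_left _ h1.2
        _ = 6 * a := by ring
  · omega

/-- the largest exponent is at least two -/
theorem two_le_Mg (hg : Cond g) (hch : HasChar p g) : 2 ≤ Mg g := by
  cases g
  case psl m q => exact hg.1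
  case psp m q =>
    show 2 ≤ 2 * m
    have := hg.1
    omega
  case psu m q =>
    show 2 ≤ 2 * (if m % 2 = 0 then m - 1 else m)
    have := hg.1
    split_ifs <;> omega
  case oodd m q =>
    show 2 ≤ 2 * m
    have := hg.1
    omega
  case oplus m q =>
    show 2 ≤ 2 * (m - 1)
    have := hg.1
    omega
  case ominus m q =>
    show 2 ≤ 2 * m
    have := hg.1
    omega
  case g2 q => show 2 ≤ 6; norm_num
  case f4 q => show 2 ≤ 12; norm_num
  case e6 q => show 2 ≤ 12; norm_num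
  case e7 q => show 2 ≤ 18; norm_num
  case e8 q => show 2 ≤ 30; norm_num
  case te6 q => show 2 ≤ 18; norm_num
  case td4 q => show 2 ≤ 12; norm_num
  case sz q => show 2 ≤ 4; norm_num
  case ree q => show 2 ≤ 6; norm_num
  case tf4 q => show 2 ≤ 12; norm_num
  all_goals exact absurd hch not_false

/-- `r` does not divide the order of the group of diagonal outer automorphisms -/
theorem not_dvd_dd (E : EX p a r b) (h5 : 5 ≤ r) {X : Art.Sh} {f : ℕ} (hg : Cond g) (h : IsLie g X p f)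
    (hf : 1 ≤ f) (hM : f * Mg g ≤ 6 * a) : ¬ r ∣ Art.dd X (p ^ f) := by
  have ha := E.ha
  have h4 : ∀ {m n : ℕ}, m ≤ 4 → 0 < m → r ∣ Nat.gcd m n → False := fun h1 h2 h3 => by
    have := Nat.le_of_dvd h2 (h3.trans (Nat.gcd_dvd_left _ _))
    omega
  have h1 : r ∣ 1 → False := fun h => by
    have := Nat.dvd_one.1 h
    omega
  intro hd
  cases h with
  | psl n p f =>
    have hd' : r ∣ Nat.gcd n (p ^ f - 1) := hd
    have h2 := hd'.trans (Nat.gcd_dvd_right _ _)
    rw [E.prim.dvd_iff] at h2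
    have h3 := Nat.le_of_dvd (by omega) h2
    have h6 : f * 2 ≤ f * n := Nat.mul_le_mul_left _ hg.1
    have h7 : f * n ≤ 6 * a := hM
    omega
  | psu n p f =>
    have hd' : r ∣ Nat.gcd n (p ^ f + 1) := hd
    have h2 := hd'.trans (Nat.gcd_dvd_right _ _)
    have h3 := h2.trans (add_dvd p f)
    rw [E.prim.dvd_iff] at h3
    have h6 := Nat.le_of_dvd (by omega) h3
    have h7 : f * (2 * (if n % 2 = 0 then n - 1 else n)) ≤ 6 * a := hM
    have h8 : f * 6 ≤ f * (2 * (if n % 2 = 0 then n - 1 else n)) := by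
      apply Nat.mul_le_mul_left
      have := hg.1
      split_ifs <;> omega
    omega
  | psp n p f => exact h4 (by norm_num) (by norm_num) hd
  | oodd n p f hn ho => exact h4 (by norm_num) (by norm_num) hd
  | oplus n p f => exact h4 (by norm_num) (by norm_num) hd
  | ominus n p f => exact h4 (by norm_num) (by norm_num) hd
  | e6 p f => exact h4 (by norm_num) (by norm_num) hd
  | e7 p f => exact h4 (by norm_num) (by norm_num) hd
  | te6 p f => exact h4 (by norm_num) (by norm_num) hd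
  | _ => exact h1 hd

/-- **The order of the subgroups with socle of Lie type in characteristic `p`, divisibility form.** -/
theorem not_dvd_card (hp : p.Prime) (E : EX p a r b) {R : Type u} [Group R] [Finite R] (S : Subgroup R) [S.Normal]
    [IsSimpleGroup S] (hna : ¬ IsMulCommutative S) (hC : Subgroup.centralizer (S : Set R) = ⊥) (hn : IsNamed g S)
    (hch : HasChar p g) (hT : TD p a (Nat.card S) (fun i => 1 ≤ i ∧ i ≤ 6 ∧ (2 ∣ i ∨ i = 4)) 6 12)
    (hne : g ≠ .oplus 4 (p ^ a)) : ¬ r ^ (b + 1) ∣ Nat.card R := by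
  intro h
  have ha := E.ha
  obtain ⟨f, hf, hfl, hK, hY⟩ := kd_all hp hn.cond hch hn.eq
  have hM := top_le hp ha hK hY hT
  have h2 : 4 * a < r := lt_of_prim E.prim
  have h5 : 5 ≤ r := by omega
  have h2M : f * 2 ≤ f * Mg g := Nat.mul_le_mul_left _ (two_le_Mg hn.cond hch)
  have hS := E.nd_name hp hn.cond hch hn.eq hfl hM hne
  have h1 := h.trans (dvd_aut S hC)
  rw [← H934.OutB.card_out_mul S hna] at h1
  obtain ⟨X, f₁, h6, h7, h8⟩ := exists_lie hp hn hch
  obtain rfl : f₁ = f := Nat.pow_right_injective hp.two_le (h8.symm.trans hfl)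
  have hout : ¬ r ∣ Nat.card (Cfsg.Out S) := by
    intro h9
    obtain ⟨k, h10, h11, -⟩ := H364.OutLie.card_out (not_comm hna) h6 hn.real h7
    rw [h10] at h9
    rcases E.prim.prime.dvd_mul.1 h9 with h12 | h12
    · rcases E.prim.prime.dvd_mul.1 (h12.trans h11) with h13 | h13
      · have h14 : r ∣ 2 ^ 3 * 3 := h13
        rcases E.prim.prime.dvd_mul.1 h14 with h15 | h15
        · have := Nat.le_of_dvd (by norm_num) (E.prim.prime.dvd_of_dvd_pow h15)
          omega
        · have := Nat.le_of_dvd (by norm_num) h15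
          omega
      · exact not_dvd_dd E h5 hn.cond h6 hf hM h13
    · have := Nat.le_of_dvd (by omega) h12
      omega
  exact hS ((cop_pow E.prim.prime hout).dvd_of_dvd_mul_left h1)

section
variable {F : Type} [Field F] [Fintype F]

/-- **R1: own characteristic** -/
theorem own_card (hF : Nat.card F = p ^ a) (h : RB p a r b)
    {R : Subgroup (T8 F)} (hR : R ≠ ⊤) (S : Subgroup R) [S.Normal] (hS : IsSimpleGroup S) (hna : ¬ IsMulCommutative S)
    (hC : Subgroup.centralizer (S : Set R) = ⊥) {P : Subgroup (GL I8 F)}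
    (_hP : IsResidualCore (pre (quadFormPlus 4 F) R) P) (e : S ≃* Soc P) (hL : IsLieTypeChar p (Soc P)) :
    ¬ r ^ (b + 1) ∣ Nat.card R := by
  have hp := h.hp
  have ha := h.ha
  obtain ⟨g, hn, hch⟩ := named_of_lie hp (OddHalf.Known.isLieTypeChar_congr e.symm hL)
  have hT8 : Nat.gcd 4 ((p ^ a) ^ 4 - 1) * Nat.card (T8 F) =
      (p ^ a) ^ (4 * (4 - 1)) * (((p ^ a) ^ 4 - 1) * prB (p ^ a) (4 - 1)) := by
    have h1 := oplus_eq (F := F) (m := 4) le_rfl
    rw [← Nat.card_eq_fintype_card, hF] at h1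
    exact h1
  have hSR : Nat.card S ∣ Nat.card (T8 F) := (Subgroup.card_subgroup_dvd_card S).trans (Subgroup.card_subgroup_dvd_card R)
  have hT : TD p a (Nat.card S) (fun i => 1 ≤ i ∧ i ≤ 6 ∧ (2 ∣ i ∨ i = 4)) 6 12 := by
    refine td_oplus hp ha (n := 4) (by norm_num) (hSR.trans ?_)
    rw [← hT8]
    exact Dvd.intro_left _ rfl
  refine not_dvd_card hp (ex_of_rb h) S hna hC hn hch hT ?_
  rintro rfl
  have h1 : Nat.gcd 4 ((p ^ a) ^ 4 - 1) * Nat.card S =
      (p ^ a) ^ (4 * (4 - 1)) * (((p ^ a) ^ 4 - 1) * prB (p ^ a) (4 - 1)) := hn.eq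
  rw [← hT8] at h1
  have h2 : Nat.card S = Nat.card (T8 F) :=
    Nat.eq_of_mul_eq_mul_left (Nat.gcd_pos_of_pos_left _ (by norm_num)) h1
  have h3 : Nat.card S ≤ Nat.card R := Nat.le_of_dvd Nat.card_pos (Subgroup.card_subgroup_dvd_card S)
  exact hR (Subgroup.eq_top_of_le_card R (h2 ▸ h3))

end

end Cfsg.Agent.H659.O8
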