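import Cfsg.Agent.H264.FKS.Names

/-!
# COV-O8+ (S2499): the exact power of a primitive prime divisor of `p ^ (4 a) - 1` in the orders of the simple groups of Lie
type in characteristic `p` (helper659)

`nd_name` : if `f · M ≤ 6 a` (`M` the largest exponent of the order of the group `g` over `p ^ f`) and `g ≠ PΩ₈⁺(p ^ a)`, then
`r ^ (b + 1) ∤ |g|`, where `r ^ (b + 1) ∤ p ^ (4 a) - 1`.
-/

set_option autoImplicit false

namespace Cfsg.Agent.H659.O8

open Cfsg.Agent.OrdDiv Cfsg.Agent.H436 Cfsg.Agent.H915.GN Cfsg.Agent.H264.GN Cfsg.Agent.H264.FKS Finset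

variable {p a r b f c : ℕ}

/-- `p` has order `4 a` modulo `r`, and `r ^ (b + 1) ∤ p ^ (4 a) - 1` -/
structure EX (p a r b : ℕ) : Prop where
  ha : 1 ≤ a
  prim : Prim p (4 * a) r
  nd : ¬ r ^ (b + 1) ∣ p ^ (4 * a) - 1

theorem cop_pow {r n N : ℕ} (hr : r.Prime) (h : ¬ r ∣ N) : Nat.Coprime (r ^ n) N :=
  Nat.Coprime.pow_left n ((Nat.Prime.coprime_iff_not_dvd hr).2 h)

theorem nd_prod {ι : Type*} [DecidableEq ι] (s : Finset ι) (F : ι → ℕ) (hr : r.Prime)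
    (hu : ∀ i ∈ s, ∀ j ∈ s, r ∣ F i → r ∣ F j → i = j) (hb : ∀ i ∈ s, ¬ r ^ (b + 1) ∣ F i) :
    ¬ r ^ (b + 1) ∣ ∏ i ∈ s, F i := by
  intro h
  have hrp : r ∣ ∏ i ∈ s, F i := (dvd_pow_self r (by omega)).trans h
  rw [Prime.dvd_finsetProd_iff hr.prime] at hrp
  obtain ⟨i, hi, hd⟩ := hrp
  rw [← Finset.mul_prod_erase s F hi] at h
  refine hb i hi ((cop_pow hr fun h1 => ?_).dvd_of_dvd_mul_right h)
  rw [Prime.dvd_finsetProd_iff hr.prime] at h1
  obtain ⟨j, hj, hd'⟩ := h1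
  have h2 := hu i hi j (Finset.mem_of_mem_erase hj) hd hd'
  exact (Finset.ne_of_mem_erase hj) h2.symm

namespace EX

variable (E : EX p a r b)
include E

theorem eqf {x N : ℕ} (h1 : 1 ≤ f * x) (hle : f * x ≤ 6 * a) (hN : N ∣ (p ^ f) ^ x - 1) (hr : r ∣ N) : f * x = 4 * a := by
  have h2 := hr.trans hN
  rw [← pow_mul, E.prim.dvd_iff] at h2
  obtain ⟨k, hk⟩ := h2
  have ha := E.ha
  have h3 : k ≠ 0 := by
    rintro rfl
    omega
  rcases Nat.lt_or_ge k 2 with h4 | h4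
  · obtain rfl : k = 1 := by omega
    omega
  · have := Nat.mul_le_mul_left (4 * a) h4
    omega

theorem ndf {x N : ℕ} (h1 : 1 ≤ f * x) (hle : f * x ≤ 6 * a) (hN : N ∣ (p ^ f) ^ x - 1) : ¬ r ^ (b + 1) ∣ N := by
  intro h
  have h2 := E.eqf h1 hle hN ((dvd_pow_self r (by omega)).trans h)
  have h3 := h.trans hN
  rw [← pow_mul, h2] at h3
  exact E.nd h3

/-- the general criterion -/
theorem nd_fam {ι : Type*} [DecidableEq ι] (hf : 1 ≤ f) {A D N : ℕ} (s : Finset ι) (F x : ι → ℕ)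
    (hF : ∀ i ∈ s, F i ∣ (p ^ f) ^ (x i) - 1) (hx : ∀ i ∈ s, 1 ≤ x i ∧ f * x i ≤ 6 * a)
    (hu : ∀ i ∈ s, ∀ j ∈ s, f * x i = 4 * a → f * x j = 4 * a → i = j)
    (hc : D * c = (p ^ f) ^ A * N) (hN : N ∣ ∏ i ∈ s, F i) : ¬ r ^ (b + 1) ∣ c := by
  intro h
  have h1 : r ^ (b + 1) ∣ (p ^ f) ^ A * N := by rw [← hc]; exact h.mul_left D
  have h2 : ¬ r ∣ (p ^ f) ^ A := by rw [← pow_mul]; exact E.prim.not_dvd_pow _
  have h3 := ((cop_pow E.prim.prime h2).dvd_of_dvd_mul_left h1).trans hN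
  have hx1 : ∀ i ∈ s, 1 ≤ f * x i := fun i hi => Nat.mul_pos hf (hx i hi).1
  refine nd_prod s F E.prim.prime (fun i hi j hj hri hrj => hu i hi j hj ?_ ?_) (fun i hi => ?_) h3
  · exact E.eqf (hx1 i hi) (hx i hi).2 (hF i hi) hri
  · exact E.eqf (hx1 j hj) (hx j hj).2 (hF j hj) hrj
  · exact E.ndf (hx1 i hi) (hx i hi).2 (hF i hi)

/-- exponents without repetition -/
theorem nd_list (hf : 1 ≤ f) {A D N M : ℕ} (L : List ℕ) (hL : L.Nodup) (hL1 : ∀ d ∈ L, 1 ≤ d ∧ d ≤ M)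
    (hM : f * M ≤ 6 * a) (hc : D * c = (p ^ f) ^ A * N) (hN : N ∣ (L.map fun d => (p ^ f) ^ d - 1).prod) :
    ¬ r ^ (b + 1) ∣ c := by
  refine E.nd_fam (A := A) (D := D) (N := N) hf L.toFinset (fun d => (p ^ f) ^ d - 1) (fun d => d) (fun _ _ => dvd_rfl)
    (fun d hd => ?_) (fun i _ j _ hi hj => ?_) hc ?_
  · have := hL1 d (List.mem_toFinset.1 hd)
    exact ⟨this.1, (Nat.mul_le_mul_left _ this.2).trans hM⟩
  · exact Nat.eq_of_mul_eq_mul_left (show 0 < f by omega) (hi.trans hj.symm)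
  · rw [List.prod_toFinset _ hL]
    exact hN

omit E in
theorem inj (hf : 1 ≤ f) {x y : ℕ} (hi : f * x = 4 * a) (hj : f * y = 4 * a) : x = y :=
  Nat.eq_of_mul_eq_mul_left (show 0 < f by omega) (hi.trans hj.symm)

omit E in
theorem le_of (hf : 1 ≤ f) {x M k l : ℕ} (hM : f * M ≤ 6 * a) (hx : f * x = 4 * a) (h : k = 2 * M) (h' : l = 3 * x) :
    k ≤ l := by
  subst h h'
  have h1 : f * (2 * M) ≤ f * (3 * x) := by
    calc f * (2 * M) = 2 * (f * M) := by ring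
      _ ≤ 2 * (6 * a) := Nat.mul_le_mul_left _ hM
      _ = 3 * (4 * a) := by ring
      _ = 3 * (f * x) := by rw [hx]
      _ = f * (3 * x) := by ring
  exact Nat.le_of_mul_le_mul_left h1 (by omega)

theorem nd_psl (hf : 1 ≤ f) {m : ℕ} (hc : den (.psl m (p ^ f)) * c = num (.psl m (p ^ f)))
    (hM : f * Mg (.psl m (p ^ f)) ≤ 6 * a) : ¬ r ^ (b + 1) ∣ c := by
  have hc1 : Nat.gcd m (p ^ f - 1) * (p ^ f - 1) * c = glN m (p ^ f) := hc
  rw [glN_eq] at hc1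
  have hM' : f * m ≤ 6 * a := hM
  refine E.nd_fam hf (range m) _ (fun i => i + 1) (fun i _ => dvd_rfl) (fun i hi => ?_) (fun i _ j _ hi hj => ?_)
    hc1 dvd_rfl
  · rw [mem_range] at hi
    exact ⟨by omega, (Nat.mul_le_mul_left _ hi).trans hM'⟩
  · have := EX.inj hf hi hj
    omega

theorem nd_spLike (hf : 1 ≤ f) {m D : ℕ} (hc : D * c = (p ^ f) ^ (m ^ 2) * prB (p ^ f) m)
    (hM : f * (2 * m) ≤ 6 * a) : ¬ r ^ (b + 1) ∣ c := by
  rw [prB_eq] at hc
  refine E.nd_fam hf (range m) _ (fun i => 2 * (i + 1)) (fun i _ => dvd_rfl) (fun i hi => ?_) (fun i _ j _ hi hj => ?_)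
    hc dvd_rfl
  · rw [mem_range] at hi
    exact ⟨by omega, (Nat.mul_le_mul_left _ (by omega)).trans hM⟩
  · have := EX.inj hf hi hj
    omega

theorem nd_ominus (hf : 1 ≤ f) {m : ℕ} (hm : 4 ≤ m) (hc : den (.ominus m (p ^ f)) * c = num (.ominus m (p ^ f)))
    (hM : f * Mg (.ominus m (p ^ f)) ≤ 6 * a) : ¬ r ^ (b + 1) ∣ c := by
  have hc' : Nat.gcd 4 ((p ^ f) ^ m + 1) * c = (p ^ f) ^ (m * (m - 1)) * (((p ^ f) ^ m + 1) * prB (p ^ f) (m - 1)) := hc
  have hM' : f * (2 * m) ≤ 6 * a := hM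
  rw [prB_eq] at hc'
  refine E.nd_fam hf (range m) (fun i => if i = m - 1 then (p ^ f) ^ m + 1 else (p ^ f) ^ (2 * (i + 1)) - 1)
    (fun i => 2 * (i + 1)) (fun i hi => ?_) (fun i hi => ?_) (fun i _ j _ hi hj => ?_)
    hc' ?_
  · rw [mem_range] at hi
    split_ifs with h
    · have := add_dvd (p ^ f) m
      rwa [show 2 * (i + 1) = 2 * m by omega]
    · exact dvd_rfl
  · rw [mem_range] at hi
    exact ⟨by omega, (Nat.mul_le_mul_left _ (by omega)).trans hM'⟩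
  · have := EX.inj hf hi hj
    omega
  · obtain ⟨k, rfl⟩ : ∃ k, m = k + 1 := ⟨m - 1, by omega⟩
    rw [prod_range_succ, mul_comm]
    refine Nat.mul_dvd_mul ?_ ?_
    · rw [Nat.add_sub_cancel]
      refine dvd_of_eq (prod_congr rfl fun i hi => ?_)
      rw [mem_range] at hi
      rw [if_neg (by omega)]
    · rw [Nat.add_sub_cancel, if_pos rfl]

theorem nd_oplus (hf : 1 ≤ f) {m : ℕ} (hm : 4 ≤ m) (hc : den (.oplus m (p ^ f)) * c = num (.oplus m (p ^ f)))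
    (hM : f * Mg (.oplus m (p ^ f)) ≤ 6 * a) (hne : ¬ (m = 4 ∧ f = a)) : ¬ r ^ (b + 1) ∣ c := by
  have hc' : Nat.gcd 4 ((p ^ f) ^ m - 1) * c = (p ^ f) ^ (m * (m - 1)) * (((p ^ f) ^ m - 1) * prB (p ^ f) (m - 1)) := hc
  have hM' : f * (2 * (m - 1)) ≤ 6 * a := hM
  rw [prB_eq] at hc'
  have key : f * m = 4 * a → m ≠ 4 := by
    rintro hx rfl
    exact hne ⟨rfl, by omega⟩
  refine E.nd_fam hf (range m) (fun i => if i = m - 1 then (p ^ f) ^ m - 1 else (p ^ f) ^ (2 * (i + 1)) - 1)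
    (fun i => if i = m - 1 then m else 2 * (i + 1)) (fun i hi => ?_) (fun i hi => ?_) (fun i hi' j hj' hi hj => ?_)
    hc' ?_
  · split_ifs with h
    · exact dvd_rfl
    · exact dvd_rfl
  · rw [mem_range] at hi
    split_ifs with h
    · exact ⟨by omega, (Nat.mul_le_mul_left _ (by omega)).trans hM'⟩
    · exact ⟨by omega, (Nat.mul_le_mul_left _ (by omega)).trans hM'⟩
  · have h1 := EX.inj hf hi hj
    have h2 := EX.le_of hf hM' hi rfl rfl
    rw [mem_range] at hi' hj'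
    split_ifs at h1 h2 hi hj with h3 h4 h4
    · omega
    · have := key hi
      omega
    · have := key hj
      omega
    · omega
  · obtain ⟨k, rfl⟩ : ∃ k, m = k + 1 := ⟨m - 1, by omega⟩
    rw [prod_range_succ, mul_comm]
    refine Nat.mul_dvd_mul ?_ ?_
    · rw [Nat.add_sub_cancel]
      refine dvd_of_eq (prod_congr rfl fun i hi => ?_)
      rw [mem_range] at hi
      rw [if_neg (by omega)]
    · rw [Nat.add_sub_cancel, if_pos rfl]

theorem nd_psu (hf : 1 ≤ f) {m : ℕ} (hm : 3 ≤ m) (hc : den (.psu m (p ^ f)) * c = num (.psu m (p ^ f)))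
    (hM : f * Mg (.psu m (p ^ f)) ≤ 6 * a) : ¬ r ^ (b + 1) ∣ c := by
  have hc' : Nat.gcd m (p ^ f + 1) * (p ^ f + 1) * c = (p ^ f) ^ (m * (m - 1) / 2) * prU (p ^ f) m := hc
  have hM' : f * (2 * (if m % 2 = 0 then m - 1 else m)) ≤ 6 * a := hM
  unfold prU at hc'
  rw [prod_list] at hc'
  refine E.nd_fam hf (range m) _ (fun i => if i % 2 = 0 then 2 * (i + 1) else i + 1) (fun i hi => ?_) (fun i hi => ?_)
    (fun i hi' j hj' hi hj => ?_) hc' dvd_rfl
  · rcases Nat.mod_two_eq_zero_or_one i with h | h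
    · rw [if_pos (by rw [h]; rfl), if_pos h]
      exact add_dvd _ _
    · rw [if_neg (by rw [h]; decide), if_neg (by rw [h]; decide)]
  · rw [mem_range] at hi
    refine ⟨by split_ifs <;> omega, (Nat.mul_le_mul_left _ ?_).trans hM'⟩
    split_ifs <;> omega
  · have h1 := EX.inj hf hi hj
    have h2 := EX.le_of hf hM' hi rfl rfl
    rw [mem_range] at hi' hj'
    split_ifs at h1 h2 <;> omega

/-- **The exact power of `r` in the order of a group of Lie type.** -/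
theorem nd_name (hp : p.Prime) {g : Grp} (hg : Cond g) (hch : HasChar p g) (hc : den g * c = num g)
    (hfl : fld g = p ^ f) (hM : f * Mg g ≤ 6 * a) (hne : g ≠ .oplus 4 (p ^ a)) : ¬ r ^ (b + 1) ∣ c := by
  have hQ : 1 ≤ p ^ f := Nat.one_le_pow _ _ hp.pos
  have hff : ∀ {f'}, p ^ f' = p ^ f → f' = f := fun h => Nat.pow_right_injective hp.two_le h
  cases g
  case psl m q =>
    obtain ⟨f', rfl⟩ := hch
    obtain rfl := hff hfl
    exact E.nd_psl (f_pos hg.2.2 rfl) hc hM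
  case psp m q =>
    obtain ⟨f', rfl⟩ := hch
    obtain rfl := hff hfl
    exact E.nd_spLike (f_pos hg.2.2 rfl) (hc : Nat.gcd 2 (p ^ f' - 1) * c = (p ^ f') ^ (m ^ 2) * prB (p ^ f') m) hM
  case psu m q =>
    obtain ⟨f', rfl⟩ := hch
    obtain rfl := hff hfl
    exact E.nd_psu (f_pos hg.2.2 rfl) hg.1 hc hM
  case oodd m q =>
    obtain ⟨f', rfl⟩ := hch
    obtain rfl := hff hfl
    exact E.nd_spLike (f_pos hg.2.2 rfl) (hc : 2 * c = (p ^ f') ^ (m ^ 2) * prB (p ^ f') m) hM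
  case oplus m q =>
    obtain ⟨f', rfl⟩ := hch
    obtain rfl := hff hfl
    refine E.nd_oplus (f_pos hg.2 rfl) hg.1 hc hM ?_
    rintro ⟨rfl, rfl⟩
    exact hne rfl
  case ominus m q =>
    obtain ⟨f', rfl⟩ := hch
    obtain rfl := hff hfl
    exact E.nd_ominus (f_pos hg.2 rfl) hg.1 hc hM
  case g2 q =>
    obtain ⟨f', rfl⟩ := hch
    obtain rfl := hff hfl
    have h : 1 * c = (p ^ f') ^ 6 * (((p ^ f') ^ 2 - 1) * ((p ^ f') ^ 6 - 1)) := hc
    refine E.nd_list (M := 6) (f_pos hg.2 rfl) [2, 6] (by decide) (by decide) hM h ?_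
    simp only [List.map_cons, List.map_nil, List.prod_cons, List.prod_nil, mul_one, dvd_refl]
  case f4 q =>
    obtain ⟨f', rfl⟩ := hch
    obtain rfl := hff hfl
    have h : 1 * c = (p ^ f') ^ 24 * (((p ^ f') ^ 2 - 1) * ((p ^ f') ^ 6 - 1) * ((p ^ f') ^ 8 - 1) *
      ((p ^ f') ^ 12 - 1)) := hc
    refine E.nd_list (M := 12) (f_pos hg rfl) [2, 6, 8, 12] (by decide) (by decide) hM h ?_
    simp only [List.map_cons, List.map_nil, List.prod_cons, List.prod_nil, mul_one, mul_assoc, dvd_refl]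
  case e6 q =>
    obtain ⟨f', rfl⟩ := hch
    obtain rfl := hff hfl
    have h : Nat.gcd 3 (p ^ f' - 1) * c = (p ^ f') ^ 36 * (((p ^ f') ^ 2 - 1) * ((p ^ f') ^ 5 - 1) * ((p ^ f') ^ 6 - 1) *
      ((p ^ f') ^ 8 - 1) * ((p ^ f') ^ 9 - 1) * ((p ^ f') ^ 12 - 1)) := hc
    refine E.nd_list (M := 12) (f_pos hg rfl) [2, 5, 6, 8, 9, 12] (by decide) (by decide) hM h ?_
    simp only [List.map_cons, List.map_nil, List.prod_cons, List.prod_nil, mul_one, mul_assoc, dvd_refl]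
  case e7 q =>
    obtain ⟨f', rfl⟩ := hch
    obtain rfl := hff hfl
    have h : Nat.gcd 2 (p ^ f' - 1) * c = (p ^ f') ^ 63 * (((p ^ f') ^ 2 - 1) * ((p ^ f') ^ 6 - 1) *
      ((p ^ f') ^ 8 - 1) * ((p ^ f') ^ 10 - 1) * ((p ^ f') ^ 12 - 1) * ((p ^ f') ^ 14 - 1) *
      ((p ^ f') ^ 18 - 1)) := hc
    refine E.nd_list (M := 18) (f_pos hg rfl) [2, 6, 8, 10, 12, 14, 18] (by decide) (by decide) hM h ?_
    simp only [List.map_cons, List.map_nil, List.prod_cons, List.prod_nil, mul_one, mul_assoc, dvd_refl]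
  case e8 q =>
    obtain ⟨f', rfl⟩ := hch
    obtain rfl := hff hfl
    have h : 1 * c = (p ^ f') ^ 120 * (((p ^ f') ^ 2 - 1) * ((p ^ f') ^ 8 - 1) * ((p ^ f') ^ 12 - 1) *
      ((p ^ f') ^ 14 - 1) * ((p ^ f') ^ 18 - 1) * ((p ^ f') ^ 20 - 1) * ((p ^ f') ^ 24 - 1) *
      ((p ^ f') ^ 30 - 1)) := hc
    refine E.nd_list (M := 30) (f_pos hg rfl) [2, 8, 12, 14, 18, 20, 24, 30] (by decide) (by decide) hM h ?_
    simp only [List.map_cons, List.map_nil, List.prod_cons, List.prod_nil, mul_one, mul_assoc, dvd_refl]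
  case te6 q =>
    obtain ⟨f', rfl⟩ := hch
    obtain rfl := hff hfl
    have h : Nat.gcd 3 (p ^ f' + 1) * c = (p ^ f') ^ 36 * (((p ^ f') ^ 2 - 1) * ((p ^ f') ^ 5 + 1) * ((p ^ f') ^ 6 - 1) *
      ((p ^ f') ^ 8 - 1) * ((p ^ f') ^ 9 + 1) * ((p ^ f') ^ 12 - 1)) := hc
    refine E.nd_list (M := 18) (f_pos hg rfl) [2, 10, 6, 8, 18, 12] (by decide) (by decide) hM h ?_
    simp only [List.map_cons, List.map_nil, List.prod_cons, List.prod_nil, mul_one]
    have h1 := add_dvd (p ^ f') 5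
    have h2 := add_dvd (p ^ f') 9
    norm_num only at h1 h2
    rw [mul_assoc, mul_assoc, mul_assoc, mul_assoc]
    exact Nat.mul_dvd_mul_left _ (Nat.mul_dvd_mul h1 (Nat.mul_dvd_mul_left _ (Nat.mul_dvd_mul_left _
      (Nat.mul_dvd_mul_right h2 _))))
  case td4 q =>
    obtain ⟨f', rfl⟩ := hch
    obtain rfl := hff hfl
    have h : 1 * c = (p ^ f') ^ 12 * (((p ^ f') ^ 2 - 1) * ((p ^ f') ^ 6 - 1) * ((p ^ f') ^ 8 + (p ^ f') ^ 4 + 1)) := hc
    refine E.nd_list (M := 12) (f_pos hg rfl) [2, 6, 12] (by decide) (by decide) hM h ?_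
    simp only [List.map_cons, List.map_nil, List.prod_cons, List.prod_nil, mul_one]
    rw [mul_assoc ((p ^ f') ^ 2 - 1)]
    refine Nat.mul_dvd_mul_left _ (Nat.mul_dvd_mul_left _ ?_)
    rw [td4_eq hQ]
    exact Dvd.intro _ rfl
  case sz q =>
    obtain ⟨f', rfl⟩ := hch
    obtain rfl := hff hfl
    obtain ⟨m, hm, hqm⟩ := hg
    have hf : 1 ≤ f' := f_pos' (q := p ^ f') (by rw [hqm]; exact Nat.one_lt_two_pow (by omega)) rfl
    have h : 1 * c = (p ^ f') ^ 2 * ((p ^ f' - 1) * ((p ^ f') ^ 2 + 1)) := hc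
    refine E.nd_list (M := 4) hf [1, 4] (by decide) (by decide) hM h ?_
    simp only [List.map_cons, List.map_nil, List.prod_cons, List.prod_nil, mul_one]
    have h1 := add_dvd (p ^ f') 2
    norm_num only at h1
    rw [pow_one]
    exact Nat.mul_dvd_mul_left _ h1
  case ree q =>
    obtain ⟨f', rfl⟩ := hch
    obtain rfl := hff hfl
    obtain ⟨m, hm, hqm⟩ := hg
    have hf : 1 ≤ f' := f_pos' (q := p ^ f') (by rw [hqm]; exact Nat.one_lt_pow (by omega) (by norm_num)) rfl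
    have h : 1 * c = (p ^ f') ^ 3 * ((p ^ f' - 1) * ((p ^ f') ^ 3 + 1)) := hc
    refine E.nd_list (M := 6) hf [1, 6] (by decide) (by decide) hM h ?_
    simp only [List.map_cons, List.map_nil, List.prod_cons, List.prod_nil, mul_one]
    have h1 := add_dvd (p ^ f') 3
    norm_num only at h1
    rw [pow_one]
    exact Nat.mul_dvd_mul_left _ h1
  case tf4 q =>
    obtain ⟨f', rfl⟩ := hch
    obtain rfl := hff hfl
    obtain ⟨m, hm, hqm⟩ := hg
    have hf : 1 ≤ f' := f_pos' (q := p ^ f') (by rw [hqm]; exact Nat.one_lt_two_pow (by omega)) rfl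
    have h : 1 * c = (p ^ f') ^ 12 * ((p ^ f' - 1) * ((p ^ f') ^ 3 + 1) * ((p ^ f') ^ 4 - 1) * ((p ^ f') ^ 6 + 1)) := hc
    refine E.nd_list (M := 12) hf [1, 6, 4, 12] (by decide) (by decide) hM h ?_
    simp only [List.map_cons, List.map_nil, List.prod_cons, List.prod_nil, mul_one]
    have h1 := add_dvd (p ^ f') 3
    have h2 := add_dvd (p ^ f') 6
    norm_num only at h1 h2
    rw [mul_assoc, mul_assoc, pow_one]
    exact Nat.mul_dvd_mul_left _ (Nat.mul_dvd_mul h1 (Nat.mul_dvd_mul_left _ h2))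
  all_goals exact absurd hch not_false

end EX

end Cfsg.Agent.H659.O8
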